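import Cfsg.Agent.Lib.GW.Two.Linear.Degree

/-!
# No linear character of `U` with linear rotated partners

`G` is simple with Sylow 2-subgroup a four-group `{1, t, u, tu}`, `U = O(C(t))`, `D = C_U(u) ≠ 1`
and `g` rotates the involutions.  If `u`-fixed linear characters `l, l₁, l₂` of `U` restrict on `D`
to the three rotations of one character, then `l = 1`.
-/

set_option autoImplicit false

open scoped Classical

namespace CfsgLib.GW.Two

open Subgroup Cfsg CfsgLib.Char CfsgLib.CharAction CfsgLib.Blocks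
open scoped ComplexConjugate

universe v

namespace Lin

theorem bracket {a b c : ℕ} {e f g : ℤ} (he : e = 1 ∨ e = -1) (hf : f = 1 ∨ f = -1) (hg : g = 1 ∨ g = -1)
    (ha : 7 ≤ a) (hb : 7 ≤ b) (hc : 7 ≤ c) (da : (4 : ℤ) ∣ (a : ℤ) - e) (db : (4 : ℤ) ∣ (b : ℤ) - f)
    (dc : (4 : ℤ) ∣ (c : ℤ) - g) (hs : 1 + e * (a : ℤ) + f * b + g * c = 0) {r : ℚ}
    (hr : r = 1 + (e : ℚ) / a + (f : ℚ) / b + (g : ℚ) / c) : 72 / 91 ≤ r ∧ r ≠ 8 / 7 := by
  have one : ∀ {x y z : ℕ}, 7 ≤ x → 7 ≤ y → (x : ℤ) = y + z - 1 → 7 ≤ z →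
      72 / 91 ≤ 1 + (1 : ℚ) / x - 1 / y - 1 / z ∧ 1 + (1 : ℚ) / x - 1 / y - 1 / z ≠ 8 / 7 := by
    intro x y z hx hy hxyz hz
    have hy' : (7 : ℚ) ≤ y := by exact_mod_cast hy
    have hz' : (7 : ℚ) ≤ z := by exact_mod_cast hz
    have hxq : (x : ℚ) = y + z - 1 := by
      have h := congrArg (fun k : ℤ => (k : ℚ)) hxyz
      push_cast at h
      exact h
    have hlt : (1 : ℚ) / x ≤ 1 / y := one_div_le_one_div_of_le (by linarith) (by linarith)
    have hzp : (0 : ℚ) < 1 / z := by positivity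
    refine ⟨?_, fun h => by linarith⟩
    have key : (1 : ℚ) / y + 1 / z - 1 / x ≤ 19 / 91 := by
      rw [hxq]
      have hy0 : (y : ℚ) ≠ 0 := by linarith
      have hz0 : (z : ℚ) ≠ 0 := by linarith
      have hx0 : (y : ℚ) + z - 1 ≠ 0 := by linarith
      rw [div_add_div _ _ hy0 hz0, div_sub_div _ _ (mul_ne_zero hy0 hz0) hx0,
        div_le_div_iff₀ (mul_pos (mul_pos (by linarith) (by linarith)) (by linarith)) (by norm_num)]
      nlinarith [mul_nonneg (sub_nonneg.2 hy') (sub_nonneg.2 hz'),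
        mul_nonneg (mul_nonneg (sub_nonneg.2 hy') (sub_nonneg.2 hz'))
          (add_nonneg (sub_nonneg.2 hy') (sub_nonneg.2 hz'))]
    linarith
  have two : ∀ {x y z : ℕ}, 9 ≤ x → 9 ≤ y → z = x + y + 1 →
      72 / 91 ≤ 1 + (1 : ℚ) / x + 1 / y - 1 / z ∧ 1 + (1 : ℚ) / x + 1 / y - 1 / z ≠ 8 / 7 := by
    intro x y z hx hy hz
    have hx' : (9 : ℚ) ≤ x := by exact_mod_cast hx
    have hy' : (9 : ℚ) ≤ y := by exact_mod_cast hy
    have hzq : (z : ℚ) = x + y + 1 := by rw [hz]; push_cast; rfl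
    have hzp : (0 : ℚ) < 1 / z := by rw [hzq]; positivity
    have hzle : (1 : ℚ) / z ≤ 1 / x := by
      apply one_div_le_one_div_of_le <;> linarith
    refine ⟨?_, fun h => ?_⟩
    · have : (0 : ℚ) < 1 / y := by positivity
      linarith
    · have hx0 : (x : ℚ) ≠ 0 := by linarith
      have hy0 : (y : ℚ) ≠ 0 := by linarith
      have hz0 : (x : ℚ) + y + 1 ≠ 0 := by linarith
      rw [hzq] at h
      field_simp at h
      have key : 7 * (x * z + y * z) = 7 * (x * y) + x * y * z := by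
        have : (7 : ℚ) * (x * (x + y + 1) + y * (x + y + 1)) =
            7 * (x * y) + x * y * (x + y + 1) := by linear_combination h
        have hz' : (z : ℤ) = x + y + 1 := by rw [hz]; push_cast; rfl
        have : ((7 * (x * z + y * z) : ℕ) : ℚ) = ((7 * (x * y) + x * y * z : ℕ) : ℚ) := by
          push_cast [hzq]; exact this
        exact_mod_cast this
      have small : ∀ p q : ℕ, 9 ≤ p → p ≤ q →
          7 * (p * (p + q + 1) + q * (p + q + 1)) = 7 * (p * q) + p * q * (p + q + 1) → False := by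
        intro p q hp hpq h
        rcases le_or_gt p 13 with h13 | h13
        · rcases le_or_gt q 30 with h30 | h30
          · interval_cases p <;> interval_cases q <;> omega
          · interval_cases p <;> nlinarith [Nat.mul_le_mul h30 h30]
        · have h5 : 7 * (p + q) ≤ p * q :=
            le_trans (by omega : 7 * (p + q) ≤ 14 * q) (Nat.mul_le_mul (by omega : 14 ≤ p) le_rfl)
          nlinarith [Nat.mul_le_mul h5 (le_refl (p + q + 1)),
            Nat.mul_pos (by omega : 0 < p) (by omega : 0 < q)]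
      rcases le_total x y with hxy | hxy
      · exact small x y hx hxy (by rw [hz] at key; exact key)
      · exact small y x hy hxy (by rw [hz] at key; linarith [key])
  rcases he with rfl | rfl <;> rcases hf with rfl | rfl <;> rcases hg with rfl | rfl <;>
    push_cast at hr <;> subst hr
  · omega
  · obtain ⟨h1, h2⟩ := two (x := a) (y := b) (z := c) (by omega) (by omega) (by omega)
    refine ⟨?_, fun h => h2 ?_⟩ <;> linarith [neg_div (c : ℚ) 1]
  · obtain ⟨h1, h2⟩ := two (x := a) (y := c) (z := b) (by omega) (by omega) (by omega)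
    refine ⟨?_, fun h => h2 ?_⟩ <;> linarith [neg_div (b : ℚ) 1]
  · obtain ⟨h1, h2⟩ := one (x := a) (y := b) (z := c) ha hb (by omega) hc
    refine ⟨?_, fun h => h2 ?_⟩ <;> linarith [neg_div (b : ℚ) 1, neg_div (c : ℚ) 1]
  · obtain ⟨h1, h2⟩ := two (x := b) (y := c) (z := a) (by omega) (by omega) (by omega)
    refine ⟨?_, fun h => h2 ?_⟩ <;> linarith [neg_div (a : ℚ) 1]
  · obtain ⟨h1, h2⟩ := one (x := b) (y := a) (z := c) hb ha (by omega) hc
    refine ⟨?_, fun h => h2 ?_⟩ <;> linarith [neg_div (a : ℚ) 1, neg_div (c : ℚ) 1]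
  · obtain ⟨h1, h2⟩ := one (x := c) (y := a) (z := b) hc ha (by omega) hb
    refine ⟨?_, fun h => h2 ?_⟩ <;> linarith [neg_div (a : ℚ) 1, neg_div (b : ℚ) 1]
  · omega

namespace Kl

variable {G : Type v} [Group G] [Fintype G] (K : Kl G) [Fintype (IrrCharacter G)]

omit [Fintype (IrrCharacter G)] in
theorem mi_trivChar_eq_zero {l : K.U →* ℂˣ} (hl : l ≠ 1) : K.mi (trivChar G) (K.lin l) = 0 := by
  have hne : K.lin 1 ≠ K.lin l := fun e => hl (MonoidHom.ext fun y => Units.ext (by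
    rw [← K.lin_apply, ← e, K.lin_apply]))
  have h := K.mi_eq (trivChar G) (K.lin l)
  rw [show (fun y : K.U => ((trivChar G : IrrCharacter G) : G → ℂ) (K.t * y)) = (K.lin 1 : K.U → ℂ) from
    funext fun y => rfl, Char.classInner_irr_of_ne hne] at h
  exact_mod_cast h.symm

variable [IsSimpleGroup G]

/-- The principal bracket. -/
theorem exists_bracket (hD : K.D ≠ ⊥) :
    ∃ r : ℚ, K.R (K.lin 1) = (r : ℂ) ∧ 72 / 91 ≤ r ∧ r ≠ 8 / 7 := by
  obtain ⟨g, hgt, hgu⟩ := K.exists_rotation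
  have hrot : ∀ y y' : K.U, (y : G) ∈ K.D → (y' : G) = g * y * g⁻¹ →
      (1 : K.U →* ℂˣ) y = (1 : K.U →* ℂˣ) y' := fun _ _ _ _ => rfl
  set X := K.supp (K.lin 1)
  have ht : trivChar G ∈ X := K.mem_supp.2 (by rw [K.mi_trivChar]; exact one_ne_zero)
  have hX : X.card = 4 := by
    have := K.card_supp (K.lin 1)
    rw [if_pos (K.tw_lin K.fix_one)] at this
    exact_mod_cast this
  have h3 : (X.erase (trivChar G)).card = 3 := by rw [Finset.card_erase_of_mem ht, hX]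
  obtain ⟨p, q, s, hpq, hps, hqs, he⟩ := Finset.card_eq_three.1 h3
  have hmem : ∀ χ, χ ∈ ({p, q, s} : Finset (IrrCharacter G)) →
      (K.mi χ (K.lin 1) = 1 ∨ K.mi χ (K.lin 1) = -1) ∧ 7 ≤ charDegree (χ : G → ℂ) ∧
        (4 : ℤ) ∣ (charDegree (χ : G → ℂ) : ℤ) - K.mi χ (K.lin 1) := by
    intro χ hχ
    rw [← he, Finset.mem_erase] at hχ
    have hm := K.mem_supp.1 hχ.2
    refine ⟨(K.mi_cases _ _).resolve_left hm, K.seven_le_degree hD χ hχ.1 hm fun θ hθ => ?_, ?_⟩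
    · rw [K.only_lin hgt hgu K.fix_one hrot χ hm θ hθ, K.lin_apply, MonoidHom.one_apply, Units.val_one]
    · refine four_dvd_sub_apply K.S K.four K.hone χ K.ht ?_
      have h := K.fixed_apply hgt hgu K.fix_one hrot χ hm 1
      rw [OneMemClass.coe_one, mul_one, map_one, Units.val_one, mul_one] at h
      exact h
  obtain ⟨hp1, hp7, hp4⟩ := hmem p (by simp)
  obtain ⟨hq1, hq7, hq4⟩ := hmem q (by simp)
  obtain ⟨hs1, hs7, hs4⟩ := hmem s (by simp)
  have htriv : charDegree ((trivChar G : IrrCharacter G) : G → ℂ) = 1 := by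
    have h := apply_one_eq_charDegree (trivChar G)
    rw [trivChar_apply] at h
    exact_mod_cast h.symm
  have hsum := K.sum_supp_degree (K.lin 1)
  rw [← Finset.add_sum_erase X _ ht, he, Finset.sum_insert (by simp [hpq, hps]), Finset.sum_pair hqs,
    K.mi_trivChar, htriv] at hsum
  obtain ⟨hlo, hne⟩ := bracket hp1 hq1 hs1 hp7 hq7 hs7 hp4 hq4 hs4
    (by push_cast at hsum; linear_combination hsum) rfl
  refine ⟨_, ?_, hlo, hne⟩
  rw [K.fixed_R hgt hgu K.fix_one hrot, ← Finset.add_sum_erase X _ ht, he,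
    Finset.sum_insert (by simp [hpq, hps]), Finset.sum_pair hqs, K.mi_trivChar, htriv]
  push_cast
  ring

section

variable {g : G} (hgt : g * K.t * g⁻¹ = K.u) (hgu : g * K.u * g⁻¹ = K.t * K.u)
include hgt hgu

omit [Fintype (IrrCharacter G)] [IsSimpleGroup G] in
theorem apply_conj_cube {l : K.U →* ℂˣ} {z z' : K.U} (hz : (z : G) ∈ K.D)
    (h : (z' : G) = g * (g * (g * z * g⁻¹) * g⁻¹) * g⁻¹) : l z' = l z := by
  have e1 : g * (K.t * K.u) * g⁻¹ = K.t := by
    rw [show g * (K.t * K.u) * g⁻¹ = g * K.t * g⁻¹ * (g * K.u * g⁻¹) by group, hgt, hgu, ← mul_assoc,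
      ← K.comm_tu.eq, mul_assoc, CfsgLib.Signalizer.involution_sq K.hu, mul_one]
  have hc : Commute (g * g * g) K.t := mul_inv_eq_iff_eq_mul.1 (by
    rw [show g * g * g * K.t * (g * g * g)⁻¹ = g * (g * (g * K.t * g⁻¹) * g⁻¹) * g⁻¹ by group, hgt,
      hgu, e1])
  have hcu : Commute (g * g * g) K.u := mul_inv_eq_iff_eq_mul.1 (by
    rw [show g * g * g * K.u * (g * g * g)⁻¹ = g * (g * (g * K.u * g⁻¹) * g⁻¹) * g⁻¹ by group, hgu,
      e1, hgt])
  obtain ⟨a, ha, i, j, he⟩ := K.exists_split hc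
  have hru : Commute (K.rep i j) K.u := commute_of_mem_klein K.S K.four (K.rep_mem i j) K.huS
  have hau : Commute a K.u := by
    have := hcu.mul_left hru.inv_left
    rwa [he, mul_inv_cancel_right] at this
  have haD : a ∈ K.D := ⟨ha, mem_centralizer_singleton_iff.2 hau.eq⟩
  have hzz : (z' : G) = ((⟨a, ha⟩ * z * (⟨a, ha⟩)⁻¹ : K.U) : G) := by
    rw [h, show g * (g * (g * (z : G) * g⁻¹) * g⁻¹) * g⁻¹ = g * g * g * z * (g * g * g)⁻¹ by group, he,
      show a * K.rep i j * z * (a * K.rep i j)⁻¹ = a * (K.rep i j * z * (K.rep i j)⁻¹) * a⁻¹ by group,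
      (K.comm_S hz (K.rep_mem i j)).symm.eq, mul_inv_cancel_right]
    rfl
  rw [Subtype.ext hzz, map_mul, map_mul, map_inv, mul_comm (l _) (l z), mul_inv_cancel_right]

theorem eq_one_of_rot_fixed (hD : K.D ≠ ⊥) {l : K.U →* ℂˣ} (hl : K.Fix l)
    (hrot : ∀ y y' : K.U, (y : G) ∈ K.D → (y' : G) = g * y * g⁻¹ → l y = l y') : l = 1 := by
  by_contra hne
  obtain ⟨r, hr, hlo, -⟩ := K.exists_bracket hD
  set X := K.supp (K.lin l)
  have hX : X.card = 4 := by
    have := K.card_supp (K.lin l)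
    rw [if_pos (K.tw_lin hl)] at this
    exact_mod_cast this
  have h7 : ∀ χ ∈ X, 7 ≤ charDegree (χ : G → ℂ) := fun χ hχ => by
    refine K.seven_le_degree hD χ (fun e => ?_) (K.mem_supp.1 hχ) fun θ hθ => ?_
    · rw [e] at hχ
      exact K.mem_supp.1 hχ (K.mi_trivChar_eq_zero hne)
    · rw [K.only_lin hgt hgu hl hrot χ (K.mem_supp.1 hχ) θ hθ, K.lin_apply, map_one, Units.val_one]
  have hR : (r : ℂ) = ((∑ χ ∈ X, (K.mi χ (K.lin l) : ℚ) / (charDegree (χ : G → ℂ) : ℚ) : ℚ) : ℂ) := by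
    rw [← hr, ← K.R_lin hl, K.fixed_R hgt hgu hl hrot]
    push_cast
    rfl
  have hR' := (Rat.cast_injective hR : r = _)
  obtain ⟨χ, hχ, hneg⟩ : ∃ χ ∈ X, K.mi χ (K.lin l) = -1 := by
    by_contra hc
    push Not at hc
    have hd := K.sum_supp_degree (K.lin l)
    have : ∀ χ ∈ X, (1 : ℤ) ≤ (charDegree (χ : G → ℂ) : ℤ) * K.mi χ (K.lin l) := fun χ hχ => by
      rw [((K.mi_cases χ (K.lin l)).resolve_left (K.mem_supp.1 hχ)).resolve_right (hc χ hχ), mul_one]
      exact_mod_cast charDegree_pos χ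
    have h4 := Finset.sum_le_sum this
    rw [hd, Finset.sum_const, hX] at h4
    norm_num at h4
  have hle : ∀ ψ ∈ X.erase χ, (K.mi ψ (K.lin l) : ℚ) / (charDegree (ψ : G → ℂ) : ℚ) ≤ 1 / 7 :=
    fun ψ hψ => by
    have hx : (7 : ℚ) ≤ (charDegree (ψ : G → ℂ) : ℚ) := by
      exact_mod_cast h7 ψ (Finset.mem_of_mem_erase hψ)
    rw [div_le_div_iff₀ (by linarith) (by norm_num)]
    rcases K.mi_cases ψ (K.lin l) with e | e | e <;> rw [e] <;> push_cast <;> linarith
  have hsum := Finset.sum_le_sum hle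
  rw [Finset.sum_const, Finset.card_erase_of_mem hχ, hX, nsmul_eq_mul] at hsum
  rw [← Finset.add_sum_erase X _ hχ, hneg] at hR'
  have hpos : ((-1 : ℤ) : ℚ) / (charDegree (χ : G → ℂ) : ℚ) ≤ 0 :=
    div_nonpos_of_nonpos_of_nonneg (by norm_num) (Nat.cast_nonneg _)
  push_cast at hsum hR' hpos
  linarith

theorem eq_one_of_rot_linear (hD : K.D ≠ ⊥) {l l₁ l₂ : K.U →* ℂˣ} (hl : K.Fix l) (hl₁ : K.Fix l₁)
    (hl₂ : K.Fix l₂)
    (h1 : ∀ y y' : K.U, (y : G) ∈ K.D → (y' : G) = g * y * g⁻¹ → l₁ y = l y')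
    (h2 : ∀ y y' : K.U, (y : G) ∈ K.D → (y' : G) = g * (g * y * g⁻¹) * g⁻¹ → l₂ y = l y') :
    l = 1 := by
  by_cases hrot : ∀ y y' : K.U, (y : G) ∈ K.D → (y' : G) = g * y * g⁻¹ → l y = l y'
  · exact K.eq_one_of_rot_fixed hgt hgu hD hl hrot
  by_contra hne
  have h12' : ∀ y y' : K.U, (y : G) ∈ K.D → (y' : G) = g * y * g⁻¹ → l₂ y = l₁ y' := fun y y' hy e => by
    have hgy := K.conj_g_mem hgt hgu hy
    have hggy := K.conj_g_mem hgt hgu hgy
    rw [h2 y ⟨_, hggy.1⟩ hy rfl, h1 y' ⟨_, hggy.1⟩ (e ▸ hgy) (by rw [e])]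
  have hlin : ∀ {a b : K.U →* ℂˣ}, K.lin a = K.lin b → ∀ y, a y = b y := fun {a b} e y =>
    Units.ext (by rw [← K.lin_apply, e, K.lin_apply])
  have h01 : K.lin l₁ ≠ K.lin l := fun e => hrot fun y y' hy hy' => by
    rw [← h1 y y' hy hy', hlin e]
  have h02 : K.lin l₂ ≠ K.lin l := fun e => hrot fun y y' hy hy' => by
    have hgy := K.conj_g_mem hgt hgu hy
    have hggy := K.conj_g_mem hgt hgu hgy
    have hgggy := K.conj_g_mem hgt hgu hggy
    have e3 : l ⟨_, hgggy.1⟩ = l y := K.apply_conj_cube hgt hgu hy rfl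
    rw [← e3, ← h2 ⟨_, hgy.1⟩ ⟨_, hgggy.1⟩ hgy rfl, hlin e]
    congr 1
    exact Subtype.ext hy'.symm
  have h12 : K.lin l₂ ≠ K.lin l₁ := fun e => hrot fun y y' hy hy' => by
    let f : K.D → K.D := fun d => ⟨g * d * g⁻¹, K.conj_g_mem hgt hgu d.2⟩
    obtain ⟨w, hw⟩ := Finite.surjective_of_injective (f := f) (fun p q h =>
      Subtype.ext (mul_left_cancel (mul_right_cancel (congrArg Subtype.val h)))) ⟨y, hy⟩
    have hw' : g * (w : G) * g⁻¹ = y := congrArg Subtype.val hw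
    rw [← h1 ⟨w, w.2.1⟩ y w.2 hw'.symm, ← hlin e, h2 ⟨w, w.2.1⟩ y' w.2 (by rw [hw', hy'])]
  have hs1 := K.supp_rot hgt hgu hl hl₁ h1
  have hs2 := (K.supp_rot hgt hgu hl₁ hl₂ h12').trans hs1
  obtain ⟨σ, hσ, χ, hχ, hR, -, hprod, hval, honly⟩ := K.moved_R hl hl₁ hl₂ h01 h02 h12 hs1 hs2
  obtain ⟨r, hr, hlo, h87⟩ := K.exists_bracket hD
  set x := charDegree (χ : G → ℂ) with hx
  have h7 : 7 ≤ x := by
    refine K.seven_le_degree hD χ (fun e => ?_) (K.mem_supp.1 hχ) fun θ hθ => ?_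
    · rw [e] at hχ
      exact K.mem_supp.1 hχ (K.mi_trivChar_eq_zero hne)
    · rcases honly θ hθ with e | e | e <;> rw [e, K.lin_apply, map_one, Units.val_one]
  rw [K.R_lin hl, hr] at hR
  have hR' : r = 8 * (σ : ℚ) / (x : ℚ) := Rat.cast_injective (α := ℂ) (by rw [hR]; push_cast; rfl)
  have hx0 : (0 : ℚ) < x := by exact_mod_cast (by omega : 0 < x)
  have hσ1 : σ = 1 := by
    rcases hσ with e | e
    · exact e
    · exfalso
      rw [e] at hR'
      have : 8 * ((-1 : ℤ) : ℚ) / (x : ℚ) < 0 := div_neg_of_neg_of_pos (by norm_num) hx0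
      linarith
  rw [hσ1] at hR' hprod
  push_cast at hR'
  rw [mul_one] at hR'
  have h4 := four_dvd_sub_apply K.S K.four K.hone χ K.ht hval
  have hx11 : x < 11 := by
    by_contra h
    push Not at h
    have : (8 : ℚ) / x ≤ 8 / 11 := div_le_div_of_nonneg_left (by norm_num) (by norm_num) (by exact_mod_cast h)
    linarith
  have hs0 := K.mem_supp.1 hχ
  have hs1' := K.mem_supp.1 (hs1.symm ▸ hχ : χ ∈ K.supp (K.lin l₁))
  have hs2' := K.mem_supp.1 (hs2.symm ▸ hχ : χ ∈ K.supp (K.lin l₂))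
  have hx7 : x = 7 := by
    rcases (K.mi_cases χ (K.lin l)).resolve_left hs0 with e | e <;>
      rcases (K.mi_cases χ (K.lin l₁)).resolve_left hs1' with e' | e' <;>
      rcases (K.mi_cases χ (K.lin l₂)).resolve_left hs2' with e'' | e'' <;>
      rw [e, e', e''] at hprod h4 <;> omega
  exact h87 (by rw [hR', hx7]; norm_num)

end

end Kl

end Lin

section Statements

variable {G : Type*} [Group G] [Finite G] [IsSimpleGroup G] (S : Sylow 2 G)
  (hS : IsKleinFour (S : Subgroup G)) (hone : ∀ a b : G, orderOf a = 2 → orderOf b = 2 → IsConj a b)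
  {t u : G} (htS : t ∈ (S : Subgroup G)) (huS : u ∈ (S : Subgroup G)) (ht : orderOf t = 2)
  (hu : orderOf u = 2) (htu : t ≠ u) (U : Subgroup G) (hUC : U ≤ centralizer ({t} : Set G))
  (hUodd : Odd (Nat.card U)) (hUmax : ∀ y, Commute y t → Odd (orderOf y) → y ∈ U)
  (hD : ∃ d ∈ U, d ≠ 1 ∧ Commute d u)
include hS hone htS huS ht hu htu hUC hUodd hUmax hD

omit [IsSimpleGroup G] in
theorem exists_kl : ∃ K : Lin.Kl G, K.S = S ∧ K.t = t ∧ K.u = u ∧ K.U = U ∧ K.D ≠ ⊥ := by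
  refine ⟨⟨S, hS, hone, t, u, htS, huS, ht, hu, htu, U, hUC, hUodd, hUmax⟩, rfl, rfl, rfl, rfl,
    fun e => ?_⟩
  obtain ⟨d, hdU, hd1, hdu⟩ := hD
  refine hd1 (Subgroup.mem_bot.1 (e ▸ ?_))
  exact ⟨hdU, mem_centralizer_singleton_iff.2 hdu.eq⟩

/-- No non-trivial linear character of `U` fixed by `u` has linear partners over both rotations
of its restriction to `D`. -/
theorem no_fixed_linear {g : G} (hgt : g * t * g⁻¹ = u) (hgu : g * u * g⁻¹ = t * u)
    (l l₁ l₂ : U →* ℂˣ) (hl : ∀ y z : U, (z : G) = u * (y : G) * u⁻¹ → l z = l y)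
    (hl₁ : ∀ y z : U, (z : G) = u * (y : G) * u⁻¹ → l₁ z = l₁ y)
    (hl₂ : ∀ y z : U, (z : G) = u * (y : G) * u⁻¹ → l₂ z = l₂ y)
    (h1 : ∀ y z : U, Commute (y : G) u → (z : G) = g * y * g⁻¹ → l₁ y = l z)
    (h2 : ∀ y z : U, Commute (y : G) u → (z : G) = g * (g * y * g⁻¹) * g⁻¹ → l₂ y = l z) :
    l = 1 := by
  haveI := Fintype.ofFinite G
  obtain ⟨K, rfl, rfl, rfl, rfl, hD'⟩ := exists_kl S hS hone htS huS ht hu htu U hUC hUodd hUmax hD
  haveI := Fintype.ofFinite (IrrCharacter G)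
  exact K.eq_one_of_rot_linear hgt hgu hD' (fun y => hl y _ rfl) (fun y => hl₁ y _ rfl)
    (fun y => hl₂ y _ rfl) (fun y z hy e => h1 y z (K.mem_D.1 hy).2.2 e)
    (fun y z hy e => h2 y z (K.mem_D.1 hy).2.2 e)

/-- No non-trivial linear character of `U` fixed by `u` is fixed on `D` by the rotation. -/
theorem no_rot_fixed_linear {g : G} (hgt : g * t * g⁻¹ = u) (hgu : g * u * g⁻¹ = t * u)
    (l : U →* ℂˣ) (hl : ∀ y z : U, (z : G) = u * (y : G) * u⁻¹ → l z = l y)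
    (h : ∀ y z : U, Commute (y : G) u → (z : G) = g * y * g⁻¹ → l y = l z) : l = 1 := by
  haveI := Fintype.ofFinite G
  obtain ⟨K, rfl, rfl, rfl, rfl, hD'⟩ := exists_kl S hS hone htS huS ht hu htu U hUC hUodd hUmax hD
  haveI := Fintype.ofFinite (IrrCharacter G)
  exact K.eq_one_of_rot_fixed hgt hgu hD' (fun y => hl y _ rfl)
    (fun y z hy e => h y z (K.mem_D.1 hy).2.2 e)

/-- `D` is not normal in `U`. -/
theorem not_normal_fixed :
    ¬ ∀ a ∈ U, ∀ d ∈ U ⊓ centralizer ({u} : Set G), a * d * a⁻¹ ∈ U ⊓ centralizer ({u} : Set G) := by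
  haveI := Fintype.ofFinite G
  obtain ⟨K, rfl, rfl, rfl, rfl, hD'⟩ := exists_kl S hS hone htS huS ht hu htu U hUC hUodd hUmax hD
  exact K.not_normal_D hD'

/-- `U` is not abelian. -/
theorem not_comm : ∃ a b : U, a * b ≠ b * a := by
  haveI := Fintype.ofFinite G
  obtain ⟨K, rfl, rfl, rfl, rfl, hD'⟩ := exists_kl S hS hone htS huS ht hu htu U hUC hUodd hUmax hD
  exact K.not_comm_U hD'

/-- Non-trivial characters of the principal block have degree at least seven. -/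
theorem seven_le_principal (M : Ideal AlgInt) (hM : IsPModular 2 M) (χ : IrrCharacter G)
    (hχ : χ ∈ principalBlock M G) (hχ1 : χ ≠ trivChar G) : 7 ≤ charDegree (χ : G → ℂ) := by
  haveI := Fintype.ofFinite G
  haveI : M.IsPrime := hM.2.1.isPrime
  have : Fact (Nat.Prime 2) := ⟨Nat.prime_two⟩
  obtain ⟨K, rfl, rfl, rfl, rfl, hD'⟩ := exists_kl S hS hone htS huS ht hu htu U hUC hUodd hUmax hD
  haveI := Fintype.ofFinite (IrrCharacter G)
  obtain ⟨g, hgt, hgu⟩ := K.exists_rotation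
  obtain ⟨-, hsign⟩ := principal_signs K.S K.four K.hone hM K.htS K.ht
  obtain ⟨ε, hε, hv, -⟩ := hsign χ hχ
  have hconst : ∀ y : K.U, (χ : G → ℂ) (K.t * y) = (ε : ℂ) * (K.lin 1 : K.U → ℂ) y := fun y => by
    rw [K.lin_apply, MonoidHom.one_apply, Units.val_one, mul_one, ← hv]
    exact apply_mul_eq_apply K.S K.four K.hone hM K.htS K.ht hχ (K.not_two_dvd_orderOf y)
  have hm : K.mi χ (K.lin 1) = ε := by
    have h := K.mi_eq χ (K.lin 1)
    rw [show (fun y : K.U => (χ : G → ℂ) (K.t * y)) = (ε : ℂ) • (K.lin 1 : K.U → ℂ) from funext hconst,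
      classInner_smul_left, classInner_irr_self, mul_one] at h
    exact_mod_cast h.symm
  have hne : K.mi χ (K.lin 1) ≠ 0 := by rw [hm]; rcases hε with e | e <;> rw [e] <;> norm_num
  refine K.seven_le_degree hD' χ hχ1 hne fun θ hθ => ?_
  rw [K.only_lin hgt hgu K.fix_one (fun _ _ _ _ => rfl) χ hne θ hθ, K.lin_apply, MonoidHom.one_apply,
    Units.val_one]

end Statements

end CfsgLib.GW.Two
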